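import Mathlib

/-!
Transitivity of `GL` and `SL` on linearly independent families.
-/

set_option autoImplicit false

namespace CfsgLib.Classical.Linear

open Matrix

variable {ι κ F : Type*} [Fintype ι] [DecidableEq ι] [Field F]

theorem sumExtend_inl {V : Type*} [AddCommGroup V] [Module F V] {v : κ → V}
    (hv : LinearIndependent F v) (a : κ) : Module.Basis.sumExtend hv (Sum.inl a) = v a := by
  simp only [Module.Basis.sumExtend, Module.Basis.reindex_apply, Module.Basis.extend_apply_self]
  rfl

theorem exists_linearEquiv_map_eq {V : Type*} [AddCommGroup V] [Module F V] [FiniteDimensional F V]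
    [Finite κ] {v w : κ → V} (hv : LinearIndependent F v) (hw : LinearIndependent F w) :
    ∃ e : V ≃ₗ[F] V, ∀ a, e (v a) = w a := by
  classical
  let b := Module.Basis.sumExtend hv
  let b' := Module.Basis.sumExtend hw
  have := Fintype.ofFinite κ
  have hfin : Finite (κ ⊕ Module.Basis.sumExtendIndex hv) := Module.Finite.finite_basis b
  have hfin' : Finite (κ ⊕ Module.Basis.sumExtendIndex hw) := Module.Finite.finite_basis b'
  have : Finite (Module.Basis.sumExtendIndex hv) :=
    Finite.of_injective (Sum.inr : _ → κ ⊕ Module.Basis.sumExtendIndex hv) Sum.inr_injective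
  have : Finite (Module.Basis.sumExtendIndex hw) :=
    Finite.of_injective (Sum.inr : _ → κ ⊕ Module.Basis.sumExtendIndex hw) Sum.inr_injective
  have hcard : Nat.card (Module.Basis.sumExtendIndex hv) =
      Nat.card (Module.Basis.sumExtendIndex hw) := by
    have h1 := Nat.card_congr (b.indexEquiv b')
    rw [Nat.card_sum, Nat.card_sum] at h1
    omega
  have := Fintype.ofFinite (Module.Basis.sumExtendIndex hv)
  have := Fintype.ofFinite (Module.Basis.sumExtendIndex hw)
  rw [Nat.card_eq_fintype_card, Nat.card_eq_fintype_card] at hcard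
  let σ := Fintype.equivOfCardEq hcard
  refine ⟨b.equiv b' (Equiv.sumCongr (Equiv.refl κ) σ), fun a => ?_⟩
  have h1 : v a = b (Sum.inl a) := (sumExtend_inl hv a).symm
  have h2 : w a = b' (Sum.inl a) := (sumExtend_inl hw a).symm
  rw [h1, h2, Module.Basis.equiv_apply]
  rfl

/-- `GL` is transitive on linearly independent families of a given shape. -/
theorem exists_gl_map_family [Finite κ] {v w : κ → ι → F} (hv : LinearIndependent F v)
    (hw : LinearIndependent F w) :
    ∃ g : GL ι F, ∀ a, (g : Matrix ι ι F) *ᵥ v a = w a := by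
  obtain ⟨e, he⟩ := exists_linearEquiv_map_eq hv hw
  refine ⟨⟨LinearMap.toMatrix' e.toLinearMap, LinearMap.toMatrix' e.symm.toLinearMap,
    by rw [← LinearMap.toMatrix'_comp]; simp, by rw [← LinearMap.toMatrix'_comp]; simp⟩,
    fun a => ?_⟩
  simpa [LinearMap.toMatrix'_mulVec] using he a

/-- A matrix of any prescribed determinant fixing a non-spanning independent family. -/
theorem exists_det_eq_fixing [Fintype κ] {w : κ → ι → F} (hw : LinearIndependent F w)
    (hlt : Fintype.card κ < Fintype.card ι) (c : F) :
    ∃ D : Matrix ι ι F, D.det = c ∧ ∀ a, D *ᵥ w a = w a := by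
  classical
  let b := Module.Basis.sumExtend hw
  have : Finite (κ ⊕ Module.Basis.sumExtendIndex hw) := Module.Finite.finite_basis b
  have : Finite (Module.Basis.sumExtendIndex hw) :=
    Finite.of_injective (Sum.inr : _ → κ ⊕ Module.Basis.sumExtendIndex hw) Sum.inr_injective
  have := Fintype.ofFinite (Module.Basis.sumExtendIndex hw)
  obtain ⟨m⟩ : Nonempty (Module.Basis.sumExtendIndex hw) := by
    have h1 := Module.finrank_eq_card_basis b
    rw [Module.finrank_fintype_fun_eq_card, Fintype.card_sum] at h1
    exact Fintype.card_pos_iff.1 (by omega)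
  let d : κ ⊕ Module.Basis.sumExtendIndex hw → F := Function.update 1 (Sum.inr m) c
  let f : (ι → F) →ₗ[F] ι → F := b.constr F fun x => d x • b x
  refine ⟨LinearMap.toMatrix' f, ?_, fun a => ?_⟩
  · rw [LinearMap.det_toMatrix', ← LinearMap.det_toMatrix b]
    have : LinearMap.toMatrix b b f = Matrix.diagonal d := by
      ext x y
      simp [f, LinearMap.toMatrix_apply, Finsupp.single_apply, Matrix.diagonal_apply]
      grind
    rw [this, Matrix.det_diagonal]
    simp only [d]
    rw [Finset.prod_update_of_mem (Finset.mem_univ _)]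
    simp
  · have h2 : w a = b (Sum.inl a) := (sumExtend_inl hw a).symm
    rw [LinearMap.toMatrix'_mulVec, h2]
    simp [f, d]

/-- `SL` is transitive on linearly independent families of size less than `n`. -/
theorem exists_sl_map_family [Fintype κ] (hlt : Fintype.card κ < Fintype.card ι)
    {v w : κ → ι → F} (hv : LinearIndependent F v) (hw : LinearIndependent F w) :
    ∃ g : Matrix.SpecialLinearGroup ι F, ∀ a, (g : Matrix ι ι F) *ᵥ v a = w a := by
  obtain ⟨g, hg⟩ := exists_gl_map_family hv hw
  obtain ⟨D, hD, hfix⟩ := exists_det_eq_fixing hw hlt ((g : Matrix ι ι F).det)⁻¹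
  refine ⟨⟨D * (g : Matrix ι ι F), by
    rw [Matrix.det_mul, hD, inv_mul_cancel₀ (Matrix.GeneralLinearGroup.det_ne_zero g)]⟩,
    fun a => ?_⟩
  change (D * (g : Matrix ι ι F)) *ᵥ v a = w a
  rw [← Matrix.mulVec_mulVec, hg, hfix]

end CfsgLib.Classical.Linear
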