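import Mathlib
import Cfsg.Agent.Classical.Linear.Simple
import Cfsg.Agent.Cores.Quasisimple
import Cfsg.Agent.Constrained.Basic
import Cfsg.Agent.Eq.Def_CaseTheorems

/-!
The block subgroup `SL_m × 1` of `SL_{m+1}` and `GL_{m+1}`: embedding, quasisimplicity, and the
centralizer of a diagonal involution separating the last coordinate.
-/

set_option autoImplicit false

namespace CfsgLib.Classical.Linear.HyperplaneLevi

open Matrix Cfsg

variable {F : Type*} [Field F] {m : ℕ}

/-- `blockdiag(A, c)` on `Fin (m + 1)`. -/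
def blockMat (A : Matrix (Fin m) (Fin m) F) (c : F) : Matrix (Fin (m + 1)) (Fin (m + 1)) F :=
  Matrix.of (Fin.snoc (fun i => Fin.snoc (A i) 0) (Pi.single (Fin.last m) c))

@[simp] theorem blockMat_cc (A : Matrix (Fin m) (Fin m) F) (c : F) (i j : Fin m) :
    blockMat A c i.castSucc j.castSucc = A i j := by simp [blockMat]

@[simp] theorem blockMat_cl (A : Matrix (Fin m) (Fin m) F) (c : F) (i : Fin m) :
    blockMat A c i.castSucc (Fin.last m) = 0 := by simp [blockMat]

@[simp] theorem blockMat_lc (A : Matrix (Fin m) (Fin m) F) (c : F) (j : Fin m) :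
    blockMat A c (Fin.last m) j.castSucc = 0 := by simp [blockMat]

@[simp] theorem blockMat_ll (A : Matrix (Fin m) (Fin m) F) (c : F) :
    blockMat A c (Fin.last m) (Fin.last m) = c := by simp [blockMat]

theorem blockMat_mul (A B : Matrix (Fin m) (Fin m) F) (c d : F) :
    blockMat A c * blockMat B d = blockMat (A * B) (c * d) := by
  ext i j
  refine Fin.lastCases ?_ (fun i => ?_) i <;> refine Fin.lastCases ?_ (fun j => ?_) j <;>
    simp [Matrix.mul_apply, Fin.sum_univ_castSucc]

theorem blockMat_diagonal (a : Fin m → F) (c : F) :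
    blockMat (diagonal a) c = diagonal (Fin.snoc a c) := by
  ext i j
  refine Fin.lastCases ?_ (fun i => ?_) i <;> refine Fin.lastCases ?_ (fun j => ?_) j <;>
    simp [diagonal_apply, (Fin.castSucc_lt_last _).ne, (Fin.castSucc_lt_last _).ne']

theorem blockMat_one : blockMat (1 : Matrix (Fin m) (Fin m) F) 1 = 1 := by
  rw [← diagonal_one, blockMat_diagonal, ← diagonal_one]
  congr 1
  ext i
  refine Fin.lastCases ?_ (fun i => ?_) i <;> simp

theorem det_blockMat (A : Matrix (Fin m) (Fin m) F) (c : F) : (blockMat A c).det = A.det * c := by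
  rw [det_succ_row _ (Fin.last m), Fin.sum_univ_castSucc]
  have hsub : (blockMat A c).submatrix Fin.castSucc Fin.castSucc = A := by
    ext i j; simp
  simp [hsub, Fin.succAbove_last, ← two_mul, pow_mul, mul_comm c]

/-- A matrix commuting with a diagonal matrix that separates the last coordinate is a block matrix. -/
theorem eq_blockMat_of_commute {d : Fin (m + 1) → F} (hd : ∀ i : Fin m, d i.castSucc ≠ d (Fin.last m))
    {M : Matrix (Fin (m + 1)) (Fin (m + 1)) F} (h : M * diagonal d = diagonal d * M) :
    M = blockMat (Matrix.of fun i j => M i.castSucc j.castSucc) (M (Fin.last m) (Fin.last m)) := by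
  have key : ∀ i j, d i ≠ d j → M i j = 0 := by
    intro i j hij
    have h1 : (M * diagonal d) i j = (diagonal d * M) i j := by rw [h]
    rw [mul_diagonal, diagonal_mul, mul_comm] at h1
    by_contra hne
    exact hij (mul_right_cancel₀ hne h1).symm
  ext i j
  refine Fin.lastCases ?_ (fun i => ?_) i <;> refine Fin.lastCases ?_ (fun j => ?_) j
  · simp
  · simpa using key _ _ (hd j).symm
  · simpa using key _ _ (hd i)
  · simp

/-- The embedding of `SL_m` as the block subgroup of `SL_{m+1}`. -/
def emb : SpecialLinearGroup (Fin m) F →* SpecialLinearGroup (Fin (m + 1)) F where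
  toFun A := ⟨blockMat A.1 1, by rw [det_blockMat, A.2, one_mul]⟩
  map_one' := Subtype.ext (by simp [blockMat_one])
  map_mul' A B := Subtype.ext (by
    show blockMat (A.1 * B.1) 1 = blockMat A.1 1 * blockMat B.1 1
    rw [blockMat_mul, mul_one])

theorem coe_emb (A : SpecialLinearGroup (Fin m) F) :
    ((emb A : SpecialLinearGroup (Fin (m + 1)) F) : Matrix (Fin (m + 1)) (Fin (m + 1)) F) = blockMat A.1 1 := rfl

theorem emb_injective : Function.Injective (emb : SpecialLinearGroup (Fin m) F →* _) := by
  intro A B h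
  ext i j
  have h1 := congrArg (fun X : SpecialLinearGroup (Fin (m + 1)) F => X.1 i.castSucc j.castSucc) h
  simpa [coe_emb] using h1

theorem mem_range_emb {M : SpecialLinearGroup (Fin (m + 1)) F} {A : Matrix (Fin m) (Fin m) F}
    (h : M.1 = blockMat A 1) : M ∈ (emb : SpecialLinearGroup (Fin m) F →* _).range := by
  have hA : A.det = 1 := by
    have h1 := M.2
    rwa [h, det_blockMat, mul_one] at h1
  exact ⟨⟨A, hA⟩, Subtype.ext h.symm⟩

theorem commute_of_blockMat {X : SpecialLinearGroup (Fin (m + 1)) F} {A : Matrix (Fin m) (Fin m) F} {c : F}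
    (hX : X.1 = blockMat A c) (hcomm : ∀ Y ∈ (emb : SpecialLinearGroup (Fin m) F →* _).range, Y * X = X * Y) :
    A ∈ Set.range (Matrix.scalar (Fin m)) := by
  refine Matrix.mem_range_scalar_of_commute_transvectionStruct fun t => ?_
  have h1 := congrArg Subtype.val (hcomm _ ⟨⟨t.toMatrix, t.det⟩, rfl⟩)
  change blockMat t.toMatrix 1 * X.1 = X.1 * blockMat t.toMatrix 1 at h1
  rw [hX, blockMat_mul, blockMat_mul] at h1
  ext i j
  simpa using congrFun (congrFun h1 i.castSucc) j.castSucc

theorem isQuasisimple_sl [Finite F] (hm : 2 ≤ m) (hq : m = 2 → 4 ≤ Nat.card F) :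
    IsQuasisimple (SpecialLinearGroup (Fin m) F) := by
  have : Nontrivial (Fin m) := Fin.nontrivial_iff_two_le.2 hm
  have h : commutator (SpecialLinearGroup (Fin m) F) = ⊤ :=
    CfsgLib.Classical.Linear.commutator_sl_fin_eq_top m fun h2 =>
      CfsgLib.Classical.Linear.exists_sq_ne_one_of_four_le (hq h2)
  exact ⟨⟨h⟩, CfsgLib.Classical.Linear.isSimpleGroup_psl_of_perfect h⟩

theorem even_card_sl [Finite F] (h2 : (-1 : F) ≠ 1) (hm : 2 ≤ m) : Even (Nat.card (SpecialLinearGroup (Fin m) F)) := by
  obtain ⟨k, rfl⟩ : ∃ k, m = k + 2 := ⟨m - 2, by omega⟩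
  let d : Fin (k + 2) → F := fun i => if (i : ℕ) < 2 then -1 else 1
  let x : SpecialLinearGroup (Fin (k + 2)) F :=
    ⟨diagonal d, by rw [det_diagonal, Fin.prod_univ_succ, Fin.prod_univ_succ]; simp [d]⟩
  have hx : orderOf x = 2 := by
    refine orderOf_eq_prime ?_ fun he => ?_
    · rw [sq]
      refine Subtype.ext ?_
      show diagonal d * diagonal d = 1
      rw [diagonal_mul_diagonal, ← diagonal_one]
      congr 1
      ext i
      simp only [d]
      split_ifs <;> simp
    · exact h2 (by simpa [x, d] using congrArg (fun X : SpecialLinearGroup (Fin (k + 2)) F => X.1 0 0) he)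
  refine even_iff_two_dvd.mpr ?_
  have h3 := orderOf_dvd_natCard x
  rwa [hx] at h3

end CfsgLib.Classical.Linear.HyperplaneLevi
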