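import Mathlib
import Cfsg.Agent.Classical.TransvAlg
import Cfsg.Agent.Eq.Def_GeometricClasses

/-!
Parabolic subgroups are maximal: a subgroup of `GL_n` containing the `SL`-stabiliser of a
subspace and an element moving the subspace contains `SL_n`.
-/

set_option autoImplicit false

namespace CfsgLib.Classical.Linear

open Matrix CfsgLib.TransvGL Cfsg

variable {F : Type*} [Field F] {n : ℕ}

namespace Parabolic

theorem exists_dual_sep {W : Submodule F (Fin n → F)} {u : Fin n → F} (hu : u ∉ W) :
    ∃ θ : Module.Dual F (Fin n → F), θ u = 1 ∧ ∀ x ∈ W, θ x = 0 := by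
  obtain ⟨φ, hφu, hφ⟩ := Submodule.exists_dual_map_eq_bot_of_notMem hu inferInstance
  refine ⟨(φ u)⁻¹ • φ, by simp [hφu], fun x hx => ?_⟩
  have : φ x ∈ Submodule.map φ W := Submodule.mem_map_of_mem hx
  rw [hφ] at this
  simp [(Submodule.mem_bot F).1 this]

/-- All transvections with centre `u` are in `M`. -/
def Full (M : Subgroup (GL (Fin n) F)) (u : Fin n → F) : Prop :=
  ∀ (χ : Module.Dual F (Fin n → F)) (h : χ u = 0), transv h ∈ M

theorem full_smul {M : Subgroup (GL (Fin n) F)} {u : Fin n → F} (hu : Full M u) {k : F} (hk : k ≠ 0) :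
    Full M (k • u) := by
  intro χ h
  have h0 : χ u = 0 := by simpa [hk] using h
  have h' : (k • χ) u = 0 := by simp [h0]
  convert hu _ h' using 1
  exact transv_congr _ _ fun x => by simp [smul_smul, mul_comm]

theorem full_conj {M : Subgroup (GL (Fin n) F)} {u : Fin n → F} (hu : Full M u) {g : GL (Fin n) F}
    (hg : g ∈ M) : Full M ((g : Matrix (Fin n) (Fin n) F) *ᵥ u) := by
  intro χ h
  have h0 : (χ.comp (Matrix.mulVecLin (g : Matrix (Fin n) (Fin n) F))) u = 0 := h
  rw [← conj_transv g h0 h rfl (fun x => rfl)]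
  exact M.mul_mem (M.mul_mem hg (hu _ h0)) (M.inv_mem hg)

end Parabolic

open Parabolic in
/-- A subgroup containing the stabiliser in `SL_n` of a proper non-zero subspace and some
element moving that subspace contains `SL_n`. -/
theorem specialLinear_le_of_stabilizer_le (W : Submodule F (Fin n → F)) (hW0 : W ≠ ⊥)
    (M : Subgroup (GL (Fin n) F))
    (hM1 : Geo.subspaceStabilizer W ⊓ Geo.specialLinear (Fin n) F ≤ M) {g : GL (Fin n) F}
    (hgM : g ∈ M) (hg : g ∉ Geo.subspaceStabilizer W) :
    Geo.specialLinear (Fin n) F ≤ M := by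
  classical
  obtain ⟨w0, hw0, hw0ne⟩ := W.ne_bot_iff.1 hW0
  have inH : ∀ {φ : Module.Dual F (Fin n → F)} {v : Fin n → F} (h : φ v = 0),
      (v ∈ W ∨ ∀ x ∈ W, φ x = 0) → transv h ∈ M :=
    fun h hc => hM1 ⟨transv_mem_subspaceStabilizer h hc, transv_mem_specialLinear h⟩
  -- a vector moved out of W
  have hnle : ¬ W.map (Matrix.mulVecLin (g : Matrix (Fin n) (Fin n) F)) ≤ W := by
    intro hle
    apply hg
    refine mem_subspaceStabilizer.2 fun x => ?_
    have hinj : Function.Injective (Matrix.mulVecLin (g : Matrix (Fin n) (Fin n) F)) := fun a b h => by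
      have := congrArg (((g⁻¹ : GL (Fin n) F) : Matrix (Fin n) (Fin n) F) *ᵥ ·) h
      simpa [inv_mulVec_mulVec] using this
    have heq' : W.map (Matrix.mulVecLin (g : Matrix (Fin n) (Fin n) F)) = W :=
      Submodule.eq_of_le_of_finrank_le hle
        (LinearEquiv.finrank_eq (Submodule.equivMapOfInjective _ hinj W)).le
    constructor
    · exact fun hx => hle (Submodule.mem_map_of_mem hx)
    · intro hx
      rw [← heq'] at hx
      obtain ⟨y, hy, hyx⟩ := Submodule.mem_map.1 hx
      exact hinj hyx ▸ hy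
  obtain ⟨_, ⟨v, hv, rfl⟩, hu⟩ := SetLike.not_le_iff_exists.1 hnle
  rw [Matrix.mulVecLin_apply] at hu
  set u := (g : Matrix (Fin n) (Fin n) F) *ᵥ v with hudef
  -- a functional with centre u nonzero on W
  obtain ⟨y, hy, hyv⟩ : ∃ y ∈ W, ((g⁻¹ : GL (Fin n) F) : Matrix (Fin n) (Fin n) F) *ᵥ y ∉
      Submodule.span F {v} := by
    by_contra hno
    push Not at hno
    apply hu
    obtain ⟨a, ha⟩ := Submodule.mem_span_singleton.1 (hno w0 hw0)
    have ha0 : a ≠ 0 := fun h0 => hw0ne (by
      rw [← mulVec_inv_mulVec g w0, ← ha, h0, zero_smul, mulVec_zero])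
    have : a • u ∈ W := by
      rw [hudef, ← mulVec_smul, ha, mulVec_inv_mulVec]; exact hw0
    exact (W.smul_mem_iff ha0).1 this
  obtain ⟨φ, hφy, hφv⟩ := exists_dual_sep hyv
  have hφv0 : φ v = 0 := hφv v (Submodule.mem_span_singleton_self v)
  set ψ := φ.comp (Matrix.mulVecLin ((g⁻¹ : GL (Fin n) F) : Matrix (Fin n) (Fin n) F)) with hψdef
  have hψu : ψ u = 0 := by
    show φ (((g⁻¹ : GL (Fin n) F) : Matrix (Fin n) (Fin n) F) *ᵥ ((g : Matrix (Fin n) (Fin n) F) *ᵥ v)) = 0
    rw [inv_mulVec_mulVec, hφv0]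
  have hψy : ψ y = 1 := hφy
  have hψ : ∀ t : F, transv (φ := t • ψ) (v := u) (by simp [hψu]) ∈ M := by
    intro t
    rw [← conj_transv g (φ := t • φ) (by simp [hφv0]) (ψ := t • ψ) (w := u)
      (by rw [LinearMap.smul_apply, hψu, smul_zero]) rfl (fun x => by
        show t * φ (((g⁻¹ : GL (Fin n) F) : Matrix (Fin n) (Fin n) F) *ᵥ
          ((g : Matrix (Fin n) (Fin n) F) *ᵥ x)) = t * φ x
        rw [inv_mulVec_mulVec])]
    exact M.mul_mem (M.mul_mem hgM (inH _ (Or.inl hv))) (M.inv_mem hgM)
  -- all transvections with centre u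
  have key : ∀ (χ : Module.Dual F (Fin n → F)) (h : χ u = 0), χ y = 0 → transv h ∈ M := by
    intro χ h hχy
    have hA := hψ 1
    have h0 : χ (y + u) = 0 := by simp [hχy, h]
    have h1 := conj_transv (transv (φ := (1 : F) • ψ) (v := u) (by simp [hψu])) hχy h0
      (by rw [transv_mulVec, one_smul, hψy, one_smul])
      (fun x => by rw [transv_mulVec, map_add, map_smul, h, smul_zero, add_zero])
    have h2 : transv h0 = transv hχy * transv h := by
      apply ext_mulVec
      intro x
      simp only [Units.val_mul, ← mulVec_mulVec, transv_mulVec, map_add, map_smul, h, smul_zero,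
        add_zero]
      module
    have h3 : transv h0 ∈ M := h1 ▸ M.mul_mem (M.mul_mem hA (inH hχy (Or.inl hy))) (M.inv_mem hA)
    rw [h2] at h3
    exact (M.mul_mem_cancel_left (inH hχy (Or.inl hy))).1 h3
  have hfull : Full M u := by
    intro χ h
    have h0 : (χ - χ y • ψ) u = 0 := by simp [h, hψu]
    have h1 := M.mul_mem (key _ h0 (by simp [hψy])) (hψ (χ y))
    convert h1 using 1
    rw [transv_mul_left]
    exact transv_congr _ _ fun x => by simp
  -- move the centre
  have hstep : ∀ (a d : Fin n → F), Full M a → a ∉ W →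
      (d ∈ W ∨ d ∉ W ⊔ Submodule.span F {a}) → Full M (a + d) := by
    intro a d ha haW hd
    have haWd : a ∉ W ⊔ Submodule.span F {d} := by
      intro hmem
      obtain ⟨w, hw, _, hd', e⟩ := Submodule.mem_sup.1 hmem
      obtain ⟨s, rfl⟩ := Submodule.mem_span_singleton.1 hd'
      by_cases hs : s = 0
      · exact haW (by simpa [← e, hs] using hw)
      rcases hd with hd | hd
      · exact haW (e ▸ W.add_mem hw (W.smul_mem s hd))
      · apply hd
        have h1 : s • d = -w + a := by rw [← e]; abel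
        rw [← Submodule.smul_mem_iff _ hs, h1]
        exact Submodule.add_mem_sup (W.neg_mem hw) (Submodule.mem_span_singleton_self a)
    obtain ⟨θ, hθa, hθ⟩ := exists_dual_sep haWd
    have hθd : θ d = 0 := hθ d (Submodule.mem_sup_right (Submodule.mem_span_singleton_self d))
    have h1 := full_conj ha (inH hθd (Or.inr fun x hx => hθ x (Submodule.mem_sup_left hx)))
    rwa [transv_mulVec, hθa, one_smul] at h1
  refine specialLinear_le_of_transv_mem M fun χ z hz => ?_
  by_cases hzW : z ∈ W
  · exact inH hz (Or.inl hzW)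
  suffices Full M z from this χ hz
  by_cases hmem : z ∈ W ⊔ Submodule.span F {u}
  · obtain ⟨w, hw, _, hk', e⟩ := Submodule.mem_sup.1 hmem
    obtain ⟨k, rfl⟩ := Submodule.mem_span_singleton.1 hk'
    have hk : k ≠ 0 := fun h0 => hzW (by rw [← e, h0, zero_smul, add_zero]; exact hw)
    have h1 := hstep (k • u) w (full_smul hfull hk) (fun h => hu ((W.smul_mem_iff hk).1 h)) (Or.inl hw)
    rwa [add_comm, e] at h1
  · have hd : z - u ∉ W ⊔ Submodule.span F {u} := fun h => hmem (by
      simpa using Submodule.add_mem _ h (Submodule.mem_sup_right (Submodule.mem_span_singleton_self u)))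
    simpa using hstep u (z - u) hfull hu (Or.inr hd)

end CfsgLib.Classical.Linear
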