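import Mathlib
import Cfsg.Prelude.Def_LinearParabolics
import Cfsg.Agent.Eq.Def_LinearParabolics

/-!
Orders of the standard parabolic subgroups of `GL_n(q)`.
-/

set_option autoImplicit false

namespace CfsgLib.Classical.Linear

open Matrix

section Arith

theorem two_mul_sum_range (m : ℕ) : 2 * (∑ i ∈ Finset.range m, i) + m = m * m := by
  induction m with
  | zero => simp
  | succ m ih => rw [Finset.sum_range_succ]; nlinarith

theorem prod_pow_sub_pow {q : ℕ} (hq : 1 ≤ q) (m : ℕ) :
    ∏ i ∈ Finset.range m, (q ^ m - q ^ i) =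
      q ^ (∑ i ∈ Finset.range m, i) * (q - 1) ^ m *
        ∏ j ∈ Finset.range m, ∑ l ∈ Finset.range (j + 1), q ^ l := by
  induction m with
  | zero => simp
  | succ m ih =>
    have h : ∏ i ∈ Finset.range m, (q ^ (m + 1) - q ^ (i + 1)) =
        q ^ m * ∏ i ∈ Finset.range m, (q ^ m - q ^ i) := by
      rw [Finset.prod_congr rfl (fun i _ => show q ^ (m + 1) - q ^ (i + 1) = q * (q ^ m - q ^ i) by
        rw [Nat.mul_sub, pow_succ', pow_succ']), Finset.prod_mul_distrib, Finset.prod_const,
        Finset.card_range]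
    rw [Finset.prod_range_succ', h, ih, pow_zero, ← geom_sum_mul_of_one_le hq (m + 1),
      Finset.prod_range_succ (fun j => ∑ l ∈ Finset.range (j + 1), q ^ l)]
    generalize ∑ l ∈ Finset.range (m + 1), q ^ l = g
    rw [Finset.sum_range_succ, pow_add, pow_succ]
    ring

end Arith

section Blocks

variable {F : Type*} [Field F] {ι α : Type*} [Fintype ι] [DecidableEq ι] [LinearOrder α]

/-- A block triangular matrix from its diagonal blocks and the entries above them. -/
def assembleBlocks (b : ι → α)
    (x : (∀ k : α, GL {i // b i = k} F) × ({p : ι × ι // b p.1 < b p.2} → F)) : Matrix ι ι F :=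
  Matrix.of fun i j =>
    if h : b i = b j then (x.1 (b i) : Matrix {a // b a = b i} {a // b a = b i} F) ⟨i, rfl⟩ ⟨j, h.symm⟩
    else if h' : b i < b j then x.2 ⟨(i, j), h'⟩ else 0

theorem assembleBlocks_blockTriangular (b : ι → α)
    (x : (∀ k : α, GL {i // b i = k} F) × ({p : ι × ι // b p.1 < b p.2} → F)) :
    (assembleBlocks b x).BlockTriangular b := fun i j h => by
  simp [assembleBlocks, h.ne', h.not_gt]

theorem toSquareBlock_assembleBlocks (b : ι → α)
    (x : (∀ k : α, GL {i // b i = k} F) × ({p : ι × ι // b p.1 < b p.2} → F)) (k : α) :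
    (assembleBlocks b x).toSquareBlock b k = (x.1 k : Matrix _ _ F) := by
  ext ⟨i, hi⟩ ⟨j, hj⟩
  subst hi
  simp [Matrix.toSquareBlock_def, assembleBlocks, hj]

variable [Fintype α]

theorem det_block_ne_zero {b : ι → α} {M : Matrix ι ι F} (hM : M.BlockTriangular b)
    (hdet : M.det ≠ 0) (k : α) : (M.toSquareBlock b k).det ≠ 0 := by
  rw [hM.det_fintype] at hdet
  exact Finset.prod_ne_zero_iff.1 hdet k (Finset.mem_univ _)

/-- Invertible block triangular matrices. -/
noncomputable def blockTriangularEquiv (b : ι → α) :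
    {g : GL ι F // (g : Matrix ι ι F).BlockTriangular b} ≃
      (∀ k : α, GL {i // b i = k} F) × ({p : ι × ι // b p.1 < b p.2} → F) where
  toFun g :=
    (fun k => Matrix.GeneralLinearGroup.mkOfDetNeZero ((g.1 : Matrix ι ι F).toSquareBlock b k)
      (det_block_ne_zero g.2 ((Matrix.isUnit_iff_isUnit_det _).1 g.1.isUnit).ne_zero k),
    fun p => (g.1 : Matrix ι ι F) p.1.1 p.1.2)
  invFun x := ⟨Matrix.GeneralLinearGroup.mkOfDetNeZero (assembleBlocks b x) (by
    rw [(assembleBlocks_blockTriangular b x).det_fintype]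
    exact Finset.prod_ne_zero_iff.2 fun k _ => by
      rw [toSquareBlock_assembleBlocks]
      exact ((Matrix.isUnit_iff_isUnit_det _).1 (x.1 k).isUnit).ne_zero),
    assembleBlocks_blockTriangular b x⟩
  left_inv g := by
    refine Subtype.ext (Units.ext ?_)
    ext i j
    rcases lt_trichotomy (b i) (b j) with h | h | h
    · simp [assembleBlocks, h.ne, h]
    · simp [assembleBlocks, h, Matrix.toSquareBlock_def]
    · simp [assembleBlocks, h.ne', h.not_gt, g.2 h]
  right_inv x := by
    refine Prod.ext (funext fun k => Units.ext ?_) (funext fun p => ?_)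
    · simp [toSquareBlock_assembleBlocks]
    · obtain ⟨⟨i, j⟩, h⟩ := p
      simp [assembleBlocks, h.ne, h]

variable [Fintype F]

theorem card_gl_of_fintype (κ : Type*) [Fintype κ] [DecidableEq κ] :
    Nat.card (GL κ F) = Fintype.card F ^ (∑ i ∈ Finset.range (Fintype.card κ), i) *
      (Fintype.card F - 1) ^ Fintype.card κ *
        ∏ j ∈ Finset.range (Fintype.card κ), ∑ l ∈ Finset.range (j + 1), Fintype.card F ^ l := by
  rw [Nat.card_congr (Units.mapEquiv
      (Matrix.reindexAlgEquiv F F (Fintype.equivFin κ)).toRingEquiv.toMulEquiv).toEquiv,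
    Matrix.card_GL_field, Fin.prod_univ_eq_prod_range
      (fun i => Fintype.card F ^ Fintype.card κ - Fintype.card F ^ i),
    prod_pow_sub_pow Fintype.card_pos]

omit [DecidableEq ι] in
theorem card_above_add (b : ι → α) :
    2 * Nat.card {p : ι × ι // b p.1 < b p.2} +
        ∑ k, Fintype.card {i // b i = k} * Fintype.card {i // b i = k} =
      Fintype.card ι * Fintype.card ι := by
  classical
  have hswap : Nat.card {p : ι × ι // b p.2 < b p.1} = Nat.card {p : ι × ι // b p.1 < b p.2} :=
    Nat.card_congr ((Equiv.prodComm ι ι).subtypeEquiv fun _ => Iff.rfl)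
  have heq : Nat.card {p : ι × ι // b p.1 = b p.2} =
      ∑ k, Fintype.card {i // b i = k} * Fintype.card {i // b i = k} := by
    rw [Nat.card_congr (show {p : ι × ι // b p.1 = b p.2} ≃
        Σ k, {i // b i = k} × {i // b i = k} from
      { toFun := fun p => ⟨b p.1.1, ⟨p.1.1, rfl⟩, ⟨p.1.2, p.2.symm⟩⟩
        invFun := fun x => ⟨(x.2.1.1, x.2.2.1), x.2.1.2.trans x.2.2.2.symm⟩
        left_inv := fun p => rfl
        right_inv := fun ⟨k, ⟨i, hi⟩, ⟨j, hj⟩⟩ => by subst hi; rfl })]
    simp [Nat.card_eq_fintype_card]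
  rw [← heq, ← Fintype.card_prod]
  simp only [Nat.card_eq_fintype_card, Fintype.card_subtype] at hswap ⊢
  have h1 := Finset.card_filter_add_card_filter_not (s := (Finset.univ : Finset (ι × ι)))
    (fun p : ι × ι => b p.1 < b p.2)
  have h2 := Finset.card_filter_add_card_filter_not
    (s := (Finset.univ : Finset (ι × ι)).filter fun p => ¬ b p.1 < b p.2)
    (fun p : ι × ι => b p.1 = b p.2)
  rw [Finset.filter_filter, Finset.filter_filter] at h2
  have e1 : ((Finset.univ : Finset (ι × ι)).filter fun p => ¬ b p.1 < b p.2 ∧ b p.1 = b p.2) =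
      Finset.univ.filter fun p => b p.1 = b p.2 :=
    Finset.filter_congr fun p _ => ⟨fun h => h.2, fun h => ⟨h.not_lt, h⟩⟩
  have e2 : ((Finset.univ : Finset (ι × ι)).filter fun p => ¬ b p.1 < b p.2 ∧ ¬ b p.1 = b p.2) =
      Finset.univ.filter fun p => b p.2 < b p.1 :=
    Finset.filter_congr fun p _ => ⟨fun h => lt_of_le_of_ne (not_lt.1 h.1) (Ne.symm h.2),
      fun h => ⟨h.not_gt, h.ne'⟩⟩
  rw [e1, e2, hswap] at h2
  rw [Finset.card_univ] at h1
  omega

/-- `|P| = q^(n choose 2) (q - 1)^n ∏ [m_k]!`. -/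
theorem card_blockTriangular_gl (b : ι → α) :
    Nat.card {g : GL ι F // (g : Matrix ι ι F).BlockTriangular b} =
      Fintype.card F ^ (∑ i ∈ Finset.range (Fintype.card ι), i) *
        (Fintype.card F - 1) ^ Fintype.card ι *
          ∏ k, ∏ j ∈ Finset.range (Fintype.card {i // b i = k}),
            ∑ l ∈ Finset.range (j + 1), Fintype.card F ^ l := by
  classical
  have hsum : ∑ k, Fintype.card {i // b i = k} = Fintype.card ι := by
    rw [← Fintype.card_sigma, Fintype.card_congr (Equiv.sigmaFiberEquiv b)]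
  rw [Nat.card_congr (blockTriangularEquiv b), Nat.card_prod, Nat.card_pi, Nat.card_fun]
  simp_rw [card_gl_of_fintype]
  rw [Finset.prod_mul_distrib, Finset.prod_mul_distrib, Finset.prod_pow_eq_pow_sum,
    Finset.prod_pow_eq_pow_sum, hsum, Nat.card_eq_fintype_card (α := F)]
  have hexp : ∑ k, (∑ i ∈ Finset.range (Fintype.card {i // b i = k}), i) +
      Nat.card {p : ι × ι // b p.1 < b p.2} = ∑ i ∈ Finset.range (Fintype.card ι), i := by
    have h1 := card_above_add b
    have h2 := two_mul_sum_range (Fintype.card ι)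
    have h3 : 2 * (∑ k, ∑ i ∈ Finset.range (Fintype.card {i // b i = k}), i) + Fintype.card ι =
        ∑ k, Fintype.card {i // b i = k} * Fintype.card {i // b i = k} := by
      rw [← hsum, Finset.mul_sum, ← Finset.sum_add_distrib]
      exact Finset.sum_congr rfl fun k _ => two_mul_sum_range _
    omega
  rw [← hexp, pow_add]
  ring

end Blocks

section Labels

variable {n : ℕ} (μ : Fin n → ℕ)

theorem filter_val_lt_succ (a : Fin n) :
    (Finset.univ.filter fun k : Fin n => k ≤ a) =
      Finset.univ.filter fun k : Fin n => (k : ℕ) < (a : ℕ) + 1 :=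
  Finset.filter_congr fun k _ => by rw [Fin.le_def]; omega

/-- Partial sum of a composition. -/
def compPartial (a : ℕ) : ℕ := ∑ k ∈ Finset.univ.filter (fun k : Fin n => (k : ℕ) < a), μ k

theorem compPartial_mono {a a' : ℕ} (h : a ≤ a') : compPartial μ a ≤ compPartial μ a' :=
  Finset.sum_le_sum_of_subset (Finset.monotone_filter_right _ fun k _ hk => lt_of_lt_of_le hk h)

theorem compPartial_succ (a : Fin n) : compPartial μ (a + 1) = compPartial μ a + μ a := by
  rw [compPartial, compPartial,
    show (Finset.univ.filter fun k : Fin n => (k : ℕ) < (a : ℕ) + 1) =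
      insert a (Finset.univ.filter fun k : Fin n => (k : ℕ) < (a : ℕ)) by
        ext k; simp [Fin.ext_iff]; omega,
    Finset.sum_insert (by simp), add_comm]

theorem compLabel_eq_of_mem {i : Fin n} {a : Fin n} (h1 : compPartial μ a ≤ i)
    (h2 : (i : ℕ) < compPartial μ (a + 1)) : Cfsg.compLabel μ i = a := by
  have key : (Finset.univ.filter fun j : Fin n =>
      (∑ k ∈ Finset.univ.filter (fun k : Fin n => k ≤ j), μ k) ≤ i.val) = Finset.Iio a := by
    ext j
    rw [Finset.mem_filter, Finset.mem_Iio, filter_val_lt_succ]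
    change _ ∧ compPartial μ (j + 1) ≤ i.val ↔ _
    refine ⟨fun h => ?_, fun h => ⟨Finset.mem_univ _, ?_⟩⟩
    · by_contra hc
      rw [Fin.lt_def] at hc
      have := compPartial_mono μ (show (a : ℕ) + 1 ≤ (j : ℕ) + 1 by omega)
      omega
    · rw [Fin.lt_def] at h
      have := compPartial_mono μ (show (j : ℕ) + 1 ≤ (a : ℕ) by omega)
      omega
  rw [Cfsg.compLabel, key, Fin.card_Iio]

variable (hμ : ∑ i, μ i = n)

include hμ

theorem exists_compPartial_mem (i : Fin n) :
    ∃ a : Fin n, compPartial μ a ≤ i ∧ (i : ℕ) < compPartial μ (a + 1) := by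
  classical
  have hn : compPartial μ n = n := by
    rw [compPartial, Finset.filter_true_of_mem fun k _ => k.isLt, hμ]
  have hex : ∃ a, (i : ℕ) < compPartial μ (a + 1) :=
    ⟨n, lt_of_lt_of_le (hn.symm ▸ i.isLt) (compPartial_mono μ (Nat.le_succ n))⟩
  have hlt : Nat.find hex < n := by
    have hp : 0 < n := i.pos
    have hm : (i : ℕ) < compPartial μ (n - 1 + 1) := by rw [Nat.sub_add_cancel hp, hn]; exact i.isLt
    have := Nat.find_le (h := hex) hm
    omega
  refine ⟨⟨_, hlt⟩, ?_, Nat.find_spec hex⟩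
  change compPartial μ (Nat.find hex) ≤ i
  rcases Nat.eq_zero_or_pos (Nat.find hex) with h0 | h0
  · rw [h0]; simp [compPartial]
  · have h := Nat.find_min hex (Nat.sub_lt h0 one_pos)
    rw [show Nat.find hex - 1 + 1 = Nat.find hex by omega] at h
    omega

theorem compLabel_lt (i : Fin n) : Cfsg.compLabel μ i < n := by
  obtain ⟨a, h1, h2⟩ := exists_compPartial_mem μ hμ i
  rw [compLabel_eq_of_mem μ h1 h2]
  exact a.isLt

theorem card_fiber_compLabel (a : Fin n) :
    Fintype.card {i : Fin n // (⟨Cfsg.compLabel μ i, compLabel_lt μ hμ i⟩ : Fin n) = a} = μ a := by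
  have hn : compPartial μ (a + 1) ≤ n := by
    refine le_trans (compPartial_mono μ (show (a : ℕ) + 1 ≤ n from a.isLt)) (le_of_eq ?_)
    rw [compPartial, Finset.filter_true_of_mem fun k _ => k.isLt, hμ]
  have hs := compPartial_succ μ a
  have hiff : ∀ i : Fin n, (⟨Cfsg.compLabel μ i, compLabel_lt μ hμ i⟩ : Fin n) = a ↔
      compPartial μ a ≤ i ∧ (i : ℕ) < compPartial μ (a + 1) := by
    intro i
    refine ⟨fun h => ?_, fun h => Fin.ext (compLabel_eq_of_mem μ h.1 h.2)⟩
    obtain ⟨c, h1, h2⟩ := exists_compPartial_mem μ hμ i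
    obtain rfl : c = a := by
      rw [← h]
      exact Fin.ext (compLabel_eq_of_mem μ h1 h2).symm
    exact ⟨h1, h2⟩
  rw [Fintype.card_congr (Equiv.subtypeEquivRight hiff),
    Fintype.card_congr (show {i : Fin n // compPartial μ a ≤ i ∧ (i : ℕ) < compPartial μ (a + 1)} ≃
        Fin (μ a) from
      { toFun := fun i => ⟨i.1 - compPartial μ a, by have := i.2; omega⟩
        invFun := fun k => ⟨⟨compPartial μ a + k, by omega⟩, by simp only; omega⟩
        left_inv := fun i => by
          have := i.2
          ext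
          simp only
          omega
        right_inv := fun k => by ext; simp }),
    Fintype.card_fin]

variable {F : Type*} [Field F] [Fintype F]

theorem card_parabolicGL :
    Nat.card (Cfsg.parabolicGL n F μ) =
      Fintype.card F ^ (∑ i ∈ Finset.range n, i) * (Fintype.card F - 1) ^ n *
        ∏ a : Fin n, ∏ j ∈ Finset.range (μ a), ∑ l ∈ Finset.range (j + 1), Fintype.card F ^ l := by
  classical
  let b : Fin n → Fin n := fun i => ⟨Cfsg.compLabel μ i, compLabel_lt μ hμ i⟩
  have e : Cfsg.parabolicGL n F μ ≃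
      {g : GL (Fin n) F // (g : Matrix (Fin n) (Fin n) F).BlockTriangular b} :=
    Equiv.subtypeEquivRight fun g => by
      refine ⟨fun h i j hij => h hij, fun h i j hij => h hij⟩
  rw [Nat.card_congr e, card_blockTriangular_gl, Fintype.card_fin]
  congr 1
  exact Finset.prod_congr rfl fun a _ => by rw [card_fiber_compLabel μ hμ a]

end Labels

end CfsgLib.Classical.Linear
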