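import Mathlib
import Cfsg.Agent.Classical.Linear.Card

/-!
Upper and lower unitriangular groups, Sylow `p`-subgroups of `GL_n` and `SL_n` in characteristic
`p`, and triviality of normal `p`-subgroups.
-/

set_option autoImplicit false

namespace CfsgLib.Classical.Linear

open Matrix

variable {n : ℕ} {R : Type*} [CommRing R]

/-- The upper unitriangular group. -/
def upperUnitri (n : ℕ) (R : Type*) [CommRing R] : Subgroup (GL (Fin n) R) where
  carrier := {g | (∀ i j : Fin n, j < i → (g : Matrix (Fin n) (Fin n) R) i j = 0) ∧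
    ∀ i : Fin n, (g : Matrix (Fin n) (Fin n) R) i i = 1}
  one_mem' := ⟨fun _ _ h => Matrix.one_apply_ne h.ne', fun _ => Matrix.one_apply_eq _⟩
  mul_mem' := by
    rintro a b ⟨ha, ha1⟩ ⟨hb, hb1⟩
    refine ⟨fun i j h => ?_, fun i => ?_⟩
    · rw [Units.val_mul, Matrix.mul_apply]
      refine Finset.sum_eq_zero fun k _ => ?_
      rcases lt_or_ge k i with hk | hk
      · rw [ha i k hk, zero_mul]
      · rw [hb k j (lt_of_lt_of_le h hk), mul_zero]
    · rw [Units.val_mul, Matrix.mul_apply, Finset.sum_eq_single i, ha1, hb1, one_mul]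
      · intro k _ hk
        rcases lt_or_gt_of_ne hk with hk | hk
        · rw [ha i k hk, zero_mul]
        · rw [hb k i hk, mul_zero]
      · simp
  inv_mem' := by
    rintro a ⟨ha, ha1⟩
    letI : Invertible (a : Matrix (Fin n) (Fin n) R) := a.invertible
    have ht : (a : Matrix (Fin n) (Fin n) R).BlockTriangular id := fun i j h => ha i j h
    have hinv : ∀ i j : Fin n, j < i →
        ((a⁻¹ : GL (Fin n) R) : Matrix (Fin n) (Fin n) R) i j = 0 := by
      intro i j h
      rw [Matrix.coe_units_inv]
      exact Matrix.blockTriangular_inv_of_blockTriangular ht h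
    refine ⟨hinv, fun i => ?_⟩
    have h := congrFun (congrFun (Units.mul_inv a) i) i
    rw [Matrix.mul_apply, Finset.sum_eq_single i, ha1, one_mul, Matrix.one_apply_eq] at h
    · exact h
    · intro k _ hk
      rcases lt_or_gt_of_ne hk with hk | hk
      · rw [ha i k hk, zero_mul]
      · rw [hinv k i hk, mul_zero]
    · simp

theorem mem_upperUnitri {g : GL (Fin n) R} :
    g ∈ upperUnitri n R ↔ (∀ i j : Fin n, j < i → (g : Matrix (Fin n) (Fin n) R) i j = 0) ∧
      ∀ i : Fin n, (g : Matrix (Fin n) (Fin n) R) i i = 1 := Iff.rfl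

theorem det_eq_one_of_mem_upperUnitri {g : GL (Fin n) R} (hg : g ∈ upperUnitri n R) :
    (g : Matrix (Fin n) (Fin n) R).det = 1 := by
  rw [Matrix.det_of_upperTriangular (fun i j h => hg.1 i j h)]
  exact Finset.prod_eq_one fun i _ => hg.2 i

/-- The matrix with ones on the diagonal and given entries above it. -/
def unitriOf (f : {p : Fin n × Fin n // p.1 < p.2} → R) : Matrix (Fin n) (Fin n) R :=
  Matrix.of fun i j => if i = j then 1 else if h : i < j then f ⟨(i, j), h⟩ else 0

theorem unitriOf_apply_of_lt (f : {p : Fin n × Fin n // p.1 < p.2} → R) {i j : Fin n}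
    (h : i < j) : unitriOf f i j = f ⟨(i, j), h⟩ := by
  simp [unitriOf, h.ne, h]

theorem unitriOf_lower (f : {p : Fin n × Fin n // p.1 < p.2} → R) {i j : Fin n}
    (h : j < i) : unitriOf f i j = 0 := by
  simp [unitriOf, h.ne', h.not_gt]

theorem det_unitriOf (f : {p : Fin n × Fin n // p.1 < p.2} → R) : (unitriOf f).det = 1 := by
  rw [Matrix.det_of_upperTriangular (M := unitriOf f) (fun i j h => unitriOf_lower f h)]
  exact Finset.prod_eq_one fun i _ => by simp [unitriOf]

/-- Unitriangular matrices are functions on the positions above the diagonal. -/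
noncomputable def upperUnitriEquiv :
    upperUnitri n R ≃ ({p : Fin n × Fin n // p.1 < p.2} → R) where
  toFun g p := (g.1 : Matrix (Fin n) (Fin n) R) p.1.1 p.1.2
  invFun f := ⟨Matrix.GeneralLinearGroup.mk'' (n := Fin n) (R := R) (unitriOf f) (by rw [det_unitriOf]; exact isUnit_one),
    ⟨fun _ _ h => unitriOf_lower f h, fun i => by
      change unitriOf f i i = 1
      simp [unitriOf]⟩⟩
  left_inv g := by
    refine Subtype.ext (Units.ext ?_)
    ext i j
    change unitriOf (R := R)
      (fun q => (g.1 : Matrix (Fin n) (Fin n) R) q.1.1 q.1.2) i j = _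
    rcases lt_trichotomy i j with h | h | h
    · rw [unitriOf_apply_of_lt _ h]
    · subst h
      rw [g.2.2 i]
      simp [unitriOf]
    · rw [unitriOf_lower _ h, g.2.1 i j h]
  right_inv f := funext fun p => unitriOf_apply_of_lt f p.2

theorem card_lt_pairs (n : ℕ) :
    Nat.card {p : Fin n × Fin n // p.1 < p.2} = ∑ i : Fin n, (i : ℕ) := by
  rw [Nat.card_congr (((Equiv.prodComm (Fin n) (Fin n)).subtypeEquiv (p := fun p : Fin n × Fin n => p.1 < p.2)
      (q := fun p : Fin n × Fin n => p.2 < p.1) (fun _ => Iff.rfl)).trans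
    (Equiv.subtypeProdEquivSigmaSubtype fun (j i : Fin n) => i < j)), Nat.card_sigma]
  exact Finset.sum_congr rfl fun j _ => by
    rw [Nat.card_eq_fintype_card, Fintype.card_subtype, Finset.filter_gt_eq_Iio, Fin.card_Iio]

theorem card_upperUnitri [Finite R] :
    Nat.card (upperUnitri n R) = Nat.card R ^ ∑ i : Fin n, (i : ℕ) := by
  rw [Nat.card_congr upperUnitriEquiv, Nat.card_fun, card_lt_pairs]

/-- The lower unitriangular group. -/
def lowerUnitri (n : ℕ) (R : Type*) [CommRing R] : Subgroup (GL (Fin n) R) where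
  carrier := {g | (∀ i j : Fin n, i < j → (g : Matrix (Fin n) (Fin n) R) i j = 0) ∧
    ∀ i : Fin n, (g : Matrix (Fin n) (Fin n) R) i i = 1}
  one_mem' := ⟨fun _ _ h => Matrix.one_apply_ne h.ne, fun _ => Matrix.one_apply_eq _⟩
  mul_mem' := by
    rintro a b ⟨ha, ha1⟩ ⟨hb, hb1⟩
    refine ⟨fun i j h => ?_, fun i => ?_⟩
    · rw [Units.val_mul, Matrix.mul_apply]
      refine Finset.sum_eq_zero fun k _ => ?_
      rcases lt_or_ge i k with hk | hk
      · rw [ha i k hk, zero_mul]
      · rw [hb k j (lt_of_le_of_lt hk h), mul_zero]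
    · rw [Units.val_mul, Matrix.mul_apply, Finset.sum_eq_single i, ha1, hb1, one_mul]
      · intro k _ hk
        rcases lt_or_gt_of_ne hk with hk | hk
        · rw [hb k i hk, mul_zero]
        · rw [ha i k hk, zero_mul]
      · simp
  inv_mem' := by
    rintro a ⟨ha, ha1⟩
    letI : Invertible (a : Matrix (Fin n) (Fin n) R) := a.invertible
    have ht : (a : Matrix (Fin n) (Fin n) R).BlockTriangular OrderDual.toDual :=
      fun i j h => ha i j h
    have hinv : ∀ i j : Fin n, i < j →
        ((a⁻¹ : GL (Fin n) R) : Matrix (Fin n) (Fin n) R) i j = 0 := by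
      intro i j h
      rw [Matrix.coe_units_inv]
      exact Matrix.blockTriangular_inv_of_blockTriangular ht h
    refine ⟨hinv, fun i => ?_⟩
    have h := congrFun (congrFun (Units.mul_inv a) i) i
    rw [Matrix.mul_apply, Finset.sum_eq_single i, ha1, one_mul, Matrix.one_apply_eq] at h
    · exact h
    · intro k _ hk
      rcases lt_or_gt_of_ne hk with hk | hk
      · rw [hinv k i hk, mul_zero]
      · rw [ha i k hk, zero_mul]
    · simp

theorem det_eq_one_of_mem_lowerUnitri {g : GL (Fin n) R} (hg : g ∈ lowerUnitri n R) :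
    (g : Matrix (Fin n) (Fin n) R).det = 1 := by
  rw [Matrix.det_of_lowerTriangular _ (fun i j h => hg.1 i j h)]
  exact Finset.prod_eq_one fun i _ => hg.2 i

theorem upperUnitri_inf_lowerUnitri : upperUnitri n R ⊓ lowerUnitri n R = ⊥ := by
  rw [eq_bot_iff]
  rintro g ⟨⟨hu, hd⟩, ⟨hl, -⟩⟩
  refine Subgroup.mem_bot.2 (Units.ext ?_)
  ext i j
  rcases lt_trichotomy i j with h | h | h
  · rw [hl i j h]; exact (Matrix.one_apply_ne h.ne).symm
  · subst h; rw [hd]; exact (Matrix.one_apply_eq i).symm
  · rw [hu i j h]; exact (Matrix.one_apply_ne h.ne').symm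

/-- Transposition identifies lower and upper unitriangular matrices. -/
noncomputable def lowerEquivUpper : lowerUnitri n R ≃ upperUnitri n R where
  toFun g := ⟨Matrix.GeneralLinearGroup.mk'' (g.1 : Matrix (Fin n) (Fin n) R).transpose
      (by rw [Matrix.det_transpose, det_eq_one_of_mem_lowerUnitri g.2]; exact isUnit_one),
    fun i j h => g.2.1 j i h, fun i => g.2.2 i⟩
  invFun g := ⟨Matrix.GeneralLinearGroup.mk'' (g.1 : Matrix (Fin n) (Fin n) R).transpose
      (by rw [Matrix.det_transpose, det_eq_one_of_mem_upperUnitri g.2]; exact isUnit_one),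
    fun i j h => g.2.1 j i h, fun i => g.2.2 i⟩
  left_inv _ := Subtype.ext (Units.ext (Matrix.transpose_transpose _))
  right_inv _ := Subtype.ext (Units.ext (Matrix.transpose_transpose _))

section Field

variable {F : Type*} [Field F] [Fintype F] {p : ℕ} [Fact p.Prime] [CharP F p]

omit [Fact p.Prime] in
theorem exists_card_eq_pow : ∃ f : ℕ, 0 < f ∧ Fintype.card F = p ^ f := by
  obtain ⟨f, -, hf⟩ := FiniteField.card F p
  exact ⟨f, f.pos, hf⟩

theorem isPGroup_upperUnitri : IsPGroup p (upperUnitri n F) := by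
  obtain ⟨f, -, hf⟩ := exists_card_eq_pow (F := F) (p := p)
  exact IsPGroup.of_card (n := f * ∑ i : Fin n, (i : ℕ))
    (by rw [card_upperUnitri, Nat.card_eq_fintype_card, hf, pow_mul])

theorem isPGroup_lowerUnitri : IsPGroup p (lowerUnitri n F) :=
  by
    obtain ⟨m, hm⟩ := IsPGroup.iff_card.1 (isPGroup_upperUnitri (n := n) (F := F) (p := p))
    exact IsPGroup.of_card ((Nat.card_congr lowerEquivUpper).trans hm)

end Field

end CfsgLib.Classical.Linear
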