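import Mathlib
import Cfsg.Agent.Classical.Linear.Unitriangular

/-!
The unitriangular groups as Sylow `p`-subgroups of `GL_n` and `SL_n`; no normal `p`-subgroups.
-/

set_option autoImplicit false

namespace CfsgLib.Classical.Linear

open Matrix

variable {F : Type*} [Field F] [Fintype F] {p : ℕ} [Fact p.Prime] [CharP F p] {n : ℕ}

omit [Fact p.Prime] [CharP F p] in
theorem card_gl_eq_pow_mul :
    Nat.card (GL (Fin n) F) = Fintype.card F ^ (∑ i : Fin n, (i : ℕ)) *
      ∏ i : Fin n, (Fintype.card F ^ (n - (i : ℕ)) - 1) := by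
  rw [Matrix.card_GL_field, ← Finset.prod_pow_eq_pow_sum, ← Finset.prod_mul_distrib]
  refine Finset.prod_congr rfl fun i _ => ?_
  rw [Nat.mul_sub_one, ← pow_add, Nat.add_sub_cancel' i.is_lt.le]

theorem not_dvd_prod_pow_sub_one :
    ¬ p ∣ ∏ i : Fin n, (Fintype.card F ^ (n - (i : ℕ)) - 1) := by
  obtain ⟨f, hf0, hf⟩ := exists_card_eq_pow (F := F) (p := p)
  have hp : p.Prime := Fact.out
  rw [hp.prime.dvd_finsetProd_iff]
  rintro ⟨i, -, hi⟩
  have hd : p ∣ Fintype.card F ^ (n - (i : ℕ)) := by
    rw [hf, ← pow_mul]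
    exact dvd_pow_self p (Nat.mul_ne_zero hf0.ne' (by omega))
  have h1 : 1 ≤ Fintype.card F ^ (n - (i : ℕ)) := Nat.one_le_pow _ _ Fintype.card_pos
  have h2 : p ∣ 1 := by
    have := Nat.dvd_sub hd hi
    rwa [Nat.sub_sub_self h1] at this
  exact hp.not_dvd_one h2

theorem not_dvd_index_of_card {H : Subgroup (GL (Fin n) F)}
    (hH : Nat.card H = Fintype.card F ^ ∑ i : Fin n, (i : ℕ)) : ¬ p ∣ H.index := by
  have h := H.index_mul_card
  rw [hH, card_gl_eq_pow_mul, mul_comm] at h
  rw [Nat.eq_of_mul_eq_mul_left (pow_pos Fintype.card_pos _) h]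
  exact not_dvd_prod_pow_sub_one

theorem not_dvd_index_upperUnitri : ¬ p ∣ (upperUnitri n F).index :=
  not_dvd_index_of_card (by rw [card_upperUnitri, Nat.card_eq_fintype_card])

/-- Upper unitriangular matrices as a Sylow `p`-subgroup of `GL_n`. -/
noncomputable def upperSylow (n : ℕ) (F : Type*) [Field F] [Fintype F] (p : ℕ) [Fact p.Prime]
    [CharP F p] : Sylow p (GL (Fin n) F) :=
  IsPGroup.toSylow isPGroup_upperUnitri not_dvd_index_upperUnitri

/-- Lower unitriangular matrices as a Sylow `p`-subgroup of `GL_n`. -/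
noncomputable def lowerSylow (n : ℕ) (F : Type*) [Field F] [Fintype F] (p : ℕ) [Fact p.Prime]
    [CharP F p] : Sylow p (GL (Fin n) F) :=
  IsPGroup.toSylow isPGroup_lowerUnitri (not_dvd_index_of_card
    (by rw [Nat.card_congr lowerEquivUpper, card_upperUnitri, Nat.card_eq_fintype_card]))

theorem coe_upperSylow :
    (upperSylow n F p : Subgroup (GL (Fin n) F)) = upperUnitri n F := rfl

theorem coe_lowerSylow :
    (lowerSylow n F p : Subgroup (GL (Fin n) F)) = lowerUnitri n F := rfl

/-- `GL_n` has no non-trivial normal `p`-subgroup in characteristic `p`. -/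
theorem gl_normal_pgroup_eq_bot (N : Subgroup (GL (Fin n) F)) [N.Normal] (hN : IsPGroup p N) :
    N = ⊥ :=
  eq_bot_iff.2 ((le_inf (hN.le_sylow_of_normal (upperSylow n F p))
    (hN.le_sylow_of_normal (lowerSylow n F p))).trans_eq upperUnitri_inf_lowerUnitri)

/-- The unitriangular group inside `SL_n`. -/
def upperUnitriSL (n : ℕ) (F : Type*) [CommRing F] :
    Subgroup (Matrix.SpecialLinearGroup (Fin n) F) :=
  (upperUnitri n F).comap Matrix.SpecialLinearGroup.toGL

/-- The lower unitriangular group inside `SL_n`. -/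
def lowerUnitriSL (n : ℕ) (F : Type*) [CommRing F] :
    Subgroup (Matrix.SpecialLinearGroup (Fin n) F) :=
  (lowerUnitri n F).comap Matrix.SpecialLinearGroup.toGL

omit [Fintype F] [Fact p.Prime] [CharP F p] in
theorem map_upperUnitriSL :
    (upperUnitriSL n F).map Matrix.SpecialLinearGroup.toGL = upperUnitri n F :=
  Subgroup.map_comap_eq_self fun g hg => mem_range_toGL.2 (Units.ext (by
    rw [Matrix.GeneralLinearGroup.val_det_apply, det_eq_one_of_mem_upperUnitri hg, Units.val_one]))

omit [Fintype F] [Fact p.Prime] [CharP F p] in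
theorem map_lowerUnitriSL :
    (lowerUnitriSL n F).map Matrix.SpecialLinearGroup.toGL = lowerUnitri n F :=
  Subgroup.map_comap_eq_self fun g hg => mem_range_toGL.2 (Units.ext (by
    rw [Matrix.GeneralLinearGroup.val_det_apply, det_eq_one_of_mem_lowerUnitri hg, Units.val_one]))

theorem isPGroup_upperUnitriSL : IsPGroup p (upperUnitriSL n F) :=
  isPGroup_upperUnitri.comap_of_injective _ Matrix.SpecialLinearGroup.toGL_injective

theorem isPGroup_lowerUnitriSL : IsPGroup p (lowerUnitriSL n F) :=
  isPGroup_lowerUnitri.comap_of_injective _ Matrix.SpecialLinearGroup.toGL_injective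

omit [Fact p.Prime] [CharP F p] in
theorem card_upperUnitriSL :
    Nat.card (upperUnitriSL n F) = Fintype.card F ^ ∑ i : Fin n, (i : ℕ) := by
  rw [← Subgroup.card_map_of_injective (K := upperUnitriSL n F)
      Matrix.SpecialLinearGroup.toGL_injective,
    map_upperUnitriSL, card_upperUnitri, Nat.card_eq_fintype_card]

theorem not_dvd_index_upperUnitriSL : ¬ p ∣ (upperUnitriSL n F).index := fun h => by
  refine not_dvd_index_upperUnitri (n := n) (F := F) (h.trans ?_)
  rw [← map_upperUnitriSL, Subgroup.index_map_of_injective _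
    Matrix.SpecialLinearGroup.toGL_injective]
  exact dvd_mul_right _ _

theorem not_dvd_index_lowerUnitriSL : ¬ p ∣ (lowerUnitriSL n F).index := fun h => by
  refine not_dvd_index_of_card (n := n) (F := F)
    (H := lowerUnitri n F) (by rw [Nat.card_congr lowerEquivUpper, card_upperUnitri,
      Nat.card_eq_fintype_card]) (h.trans ?_)
  rw [← map_lowerUnitriSL, Subgroup.index_map_of_injective _
    Matrix.SpecialLinearGroup.toGL_injective]
  exact dvd_mul_right _ _

/-- Upper unitriangular matrices as a Sylow `p`-subgroup of `SL_n`. -/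
noncomputable def upperSylowSL (n : ℕ) (F : Type*) [Field F] [Fintype F] (p : ℕ) [Fact p.Prime]
    [CharP F p] : Sylow p (Matrix.SpecialLinearGroup (Fin n) F) :=
  IsPGroup.toSylow isPGroup_upperUnitriSL not_dvd_index_upperUnitriSL

/-- Lower unitriangular matrices as a Sylow `p`-subgroup of `SL_n`. -/
noncomputable def lowerSylowSL (n : ℕ) (F : Type*) [Field F] [Fintype F] (p : ℕ) [Fact p.Prime]
    [CharP F p] : Sylow p (Matrix.SpecialLinearGroup (Fin n) F) :=
  IsPGroup.toSylow isPGroup_lowerUnitriSL not_dvd_index_lowerUnitriSL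

/-- `SL_n` has no non-trivial normal `p`-subgroup in characteristic `p`. -/
theorem sl_normal_pgroup_eq_bot (N : Subgroup (Matrix.SpecialLinearGroup (Fin n) F)) [N.Normal]
    (hN : IsPGroup p N) : N = ⊥ := by
  rw [eq_bot_iff]
  intro g hg
  have h1 : g ∈ upperUnitriSL n F := hN.le_sylow_of_normal (upperSylowSL n F p) hg
  have h2 : g ∈ lowerUnitriSL n F := hN.le_sylow_of_normal (lowerSylowSL n F p) hg
  have h : Matrix.SpecialLinearGroup.toGL g ∈ upperUnitri n F ⊓ lowerUnitri n F := ⟨h1, h2⟩
  rw [upperUnitri_inf_lowerUnitri, Subgroup.mem_bot] at h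
  exact Subgroup.mem_bot.2 (Matrix.SpecialLinearGroup.toGL_injective (h.trans (map_one _).symm))

end CfsgLib.Classical.Linear
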