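import Mathlib
import Cfsg.Prelude.Def_ClassicalGeometry
import Cfsg.Agent.Eq.Def_ClassicalGeometry
import Cfsg.Agent.Classical.Linear.Transitivity

/-!
`Cfsg.IsTransvection`: shape `1 + v φᵀ` and conjugacy classes in `SL`.
-/

set_option autoImplicit false

namespace CfsgLib.Classical.Linear

open Matrix

section

variable {ι : Type} {F : Type*} [Fintype ι] [DecidableEq ι] [Field F]

theorem isTransvection_iff {t : Matrix ι ι F} :
    Cfsg.IsTransvection t ↔
      ∃ v φ : ι → F, v ≠ 0 ∧ φ ≠ 0 ∧ φ ⬝ᵥ v = 0 ∧ t = 1 + Matrix.vecMulVec v φ := by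
  unfold Cfsg.IsTransvection
  constructor
  · rintro ⟨hr, hsq⟩
    obtain ⟨v, hv⟩ : ∃ v, LinearMap.range (t - 1).mulVecLin = Submodule.span F {v} := by
      obtain ⟨v, -, hv⟩ := finrank_eq_one_iff'.1 (show Module.finrank F
        (LinearMap.range (t - 1).mulVecLin) = 1 from hr)
      refine ⟨v, le_antisymm (fun x hx => ?_) ((Submodule.span_singleton_le_iff_mem _ _).2 v.2)⟩
      obtain ⟨c, hc⟩ := hv ⟨x, hx⟩
      exact Submodule.mem_span_singleton.2 ⟨c, congrArg Subtype.val hc⟩
    have hcol : ∀ j, ∃ c : F, c • v = (t - 1) *ᵥ Pi.single j 1 := fun j => by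
      rw [← Submodule.mem_span_singleton, ← hv]
      exact ⟨Pi.single j 1, rfl⟩
    choose φ hφ using hcol
    have hN : t - 1 = Matrix.vecMulVec v φ := by
      ext a j
      have := congrFun (hφ j) a
      simp only [Matrix.mulVec_single_one, Pi.smul_apply, smul_eq_mul, Matrix.col_apply] at this
      rw [← this, Matrix.vecMulVec_apply, mul_comm]
    have hne : Matrix.vecMulVec v φ ≠ 0 := by
      intro h
      rw [hN, h, Matrix.rank_zero] at hr
      exact zero_ne_one hr
    have hv0 : v ≠ 0 := fun h => hne (by simp [h])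
    have hφ0 : φ ≠ 0 := fun h => hne (by simp [h])
    refine ⟨v, φ, hv0, hφ0, ?_, by rw [← hN]; abel⟩
    obtain ⟨a, ha⟩ := Function.ne_iff.1 hv0
    obtain ⟨b, hb⟩ := Function.ne_iff.1 hφ0
    rw [hN, Matrix.vecMulVec_mul_vecMulVec] at hsq
    have := congrFun (congrFun hsq a) b
    simpa [Matrix.vecMulVec_apply, show v a ≠ 0 from ha, show φ b ≠ 0 from hb] using this
  · rintro ⟨v, φ, hv, hφ, h, rfl⟩
    rw [add_sub_cancel_left]
    refine ⟨?_, by rw [Matrix.vecMulVec_mul_vecMulVec, h]; simp⟩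
    refine le_antisymm (Matrix.rank_vecMulVec_le v φ) (Nat.one_le_iff_ne_zero.2 fun h0 => ?_)
    obtain ⟨a, ha⟩ := Function.ne_iff.1 hv
    obtain ⟨b, hb⟩ := Function.ne_iff.1 hφ
    have h0' : (Matrix.vecMulVec v φ).mulVecLin = 0 :=
      LinearMap.range_eq_bot.1 (Submodule.finrank_eq_zero.1 h0)
    have := congrFun (LinearMap.congr_fun h0' (Pi.single b 1)) a
    simp [Matrix.vecMulVec_apply, show v a ≠ 0 from ha, show φ b ≠ 0 from hb] at this

theorem isTransvection_transvection {i j : ι} (hij : i ≠ j) {c : F} (hc : c ≠ 0) :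
    Cfsg.IsTransvection
      ((Matrix.SpecialLinearGroup.transvection hij c : Matrix.SpecialLinearGroup ι F) :
        Matrix ι ι F) :=
  isTransvection_iff.2 ⟨Pi.single i 1, Pi.single j c, by simp, by simp [hc], by simp [hij],
    (one_add_vecMulVec_single hij c).symm⟩

/-- A transvection is conjugate to one centred at `e_i` with axis avoiding `e_j`. -/
theorem exists_normal_form [Nontrivial ι] {i j : ι} (hij : i ≠ j)
    {t : Matrix.SpecialLinearGroup ι F} (ht : Cfsg.IsTransvection (t : Matrix ι ι F)) :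
    ∃ (g : Matrix.SpecialLinearGroup ι F) (ψ : ι → F), ψ i = 0 ∧ ψ j ≠ 0 ∧
      (g : Matrix ι ι F) * (t : Matrix ι ι F) *
          ((g⁻¹ : Matrix.SpecialLinearGroup ι F) : Matrix ι ι F) =
        1 + Matrix.vecMulVec (Pi.single i 1) ψ := by
  obtain ⟨v, φ, hv, hφ, h, htv⟩ := isTransvection_iff.1 ht
  obtain ⟨g, ψ, hψ, hψi, hg⟩ := exists_conj_center i hv hφ h
  rw [← htv] at hg
  by_cases hj : ψ j = 0
  · obtain ⟨k, hk⟩ := Function.ne_iff.1 hψ
    have hki : k ≠ i := fun e => hk (by simp [e, hψi])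
    have hkj : k ≠ j := fun e => hk (by simp [e, hj])
    set s := Matrix.SpecialLinearGroup.transvection hkj (1 : F) with hs
    have hψ' : ∀ a, (ψ ᵥ* (s : Matrix ι ι F)) a = ψ a + if a = j then ψ k else 0 := by
      intro a
      simp [hs, Matrix.vecMul, dotProduct, transvection_apply, mul_add, Finset.sum_add_distrib,
        Matrix.one_apply]
      by_cases ha : a = j <;> simp [ha]
    have hfix : ((s⁻¹ : Matrix.SpecialLinearGroup ι F) : Matrix ι ι F) *ᵥ Pi.single i 1 =
        Pi.single i 1 := by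
      ext a
      rw [hs, Matrix.SpecialLinearGroup.transvection_inv, transvection_mulVec]
      simp [Pi.single_eq_of_ne hij.symm]
    refine ⟨s⁻¹ * g, ψ ᵥ* (s : Matrix ι ι F), ?_, ?_, ?_⟩
    · simp [hψ', hψi, hij]
    · simpa [hψ', hj] using hk
    · have hstep := sl_mul_one_add_vecMulVec_mul_inv s⁻¹ (Pi.single i 1) ψ
      rw [hfix, inv_inv, ← hg] at hstep
      rw [← hstep, _root_.mul_inv_rev, inv_inv, Matrix.SpecialLinearGroup.coe_mul,
        Matrix.SpecialLinearGroup.coe_mul]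
      simp only [Matrix.mul_assoc]
  · exact ⟨g, ψ, hψi, hj, hg⟩

/-- Every transvection in `SL` is conjugate to some `x_{ij}(c)`. -/
theorem exists_isConj_transvection [Nontrivial ι] {i j : ι} (hij : i ≠ j)
    {t : Matrix.SpecialLinearGroup ι F} (ht : Cfsg.IsTransvection (t : Matrix ι ι F)) :
    ∃ c : F, c ≠ 0 ∧ IsConj t (Matrix.SpecialLinearGroup.transvection hij c) := by
  obtain ⟨g, ψ, hi, hj, hg⟩ := exists_normal_form hij ht
  obtain ⟨h, hh⟩ := exists_conj_axis hij hi hj hj (.inl rfl)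
  refine ⟨ψ j, hj, isConj_iff.2 ⟨h * g, Subtype.ext ?_⟩⟩
  rw [← hg] at hh
  rw [← hh, _root_.mul_inv_rev]
  simp only [Matrix.SpecialLinearGroup.coe_mul, Matrix.mul_assoc]

/-- For `n ≥ 3` all transvections are conjugate in `SL`. -/
theorem isConj_transvection_of_three_le (h3 : 3 ≤ Fintype.card ι) {i j : ι} (hij : i ≠ j)
    {c : F} (hc : c ≠ 0) {t : Matrix.SpecialLinearGroup ι F}
    (ht : Cfsg.IsTransvection (t : Matrix ι ι F)) :
    IsConj t (Matrix.SpecialLinearGroup.transvection hij c) := by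
  have : Nontrivial ι := ⟨⟨i, j, hij⟩⟩
  obtain ⟨g, ψ, hi, hj, hg⟩ := exists_normal_form hij ht
  obtain ⟨h, hh⟩ := exists_conj_axis hij hi hj hc (.inr h3)
  refine isConj_iff.2 ⟨h * g, Subtype.ext ?_⟩
  rw [← hg] at hh
  rw [← hh, _root_.mul_inv_rev]
  simp only [Matrix.SpecialLinearGroup.coe_mul, Matrix.mul_assoc]

theorem isConj_of_isTransvection (h3 : 3 ≤ Fintype.card ι) {s t : Matrix.SpecialLinearGroup ι F}
    (hs : Cfsg.IsTransvection (s : Matrix ι ι F)) (ht : Cfsg.IsTransvection (t : Matrix ι ι F)) :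
    IsConj s t := by
  have : Nontrivial ι := Fintype.one_lt_card_iff_nontrivial.1 (by omega)
  obtain ⟨i, j, hij⟩ := exists_pair_ne ι
  exact (isConj_transvection_of_three_le h3 hij one_ne_zero hs).trans
    (isConj_transvection_of_three_le h3 hij one_ne_zero ht).symm

end

end CfsgLib.Classical.Linear
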